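import Mathlib

/-!
# The relative cotangent space at a point rational over the residue field of the base
-/

set_option autoImplicit false
noncomputable section

universe u

open IsLocalRing TensorProduct KaehlerDifferential

namespace Groth.Agent.H26EqSec

variable {A B : Type u} [CommRing A] [IsLocalRing A] [CommRing B] [Algebra A B]
  (χ : B →+* ResidueField A) (hχ : χ.comp (algebraMap A B) = residue A)

/-- The ideal of the point. -/
abbrev mm : Ideal B := RingHom.ker χ

/-- Squares of the point ideal and the maximal ideal of the base. -/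
abbrev nn : Ideal B := mm χ * mm χ ⊔ (maximalIdeal A).map (algebraMap A B)

/-- The differential at the point. -/
noncomputable def dbar (y : B) : (B ⧸ mm χ) ⊗[B] Ω[B⁄A] := 1 ⊗ₜ D A B y

theorem dbar_mul (a y : B) :
    dbar (A := A) χ (a * y) =
      Ideal.Quotient.mk (mm χ) a • dbar (A := A) χ y + Ideal.Quotient.mk (mm χ) y • dbar (A := A) χ a := by
  simp only [dbar, Derivation.leibniz, tmul_add, tmul_smul]
  exact congrArg₂ (· + ·) (algebraMap_smul (B ⧸ mm χ) a _).symm (algebraMap_smul (B ⧸ mm χ) y _).symm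

theorem dbar_add (a y : B) : dbar (A := A) χ (a + y) = dbar (A := A) χ a + dbar (A := A) χ y := by
  rw [dbar, map_add, tmul_add]; rfl

theorem dbar_algebraMap (a : A) : dbar (A := A) χ (algebraMap A B a) = 0 := by
  rw [dbar, Derivation.map_algebraMap, tmul_zero]

theorem dbar_mul_of_mem (a : B) {y : B} (hy : y ∈ mm χ) :
    dbar (A := A) χ (a * y) = Ideal.Quotient.mk (mm χ) a • dbar (A := A) χ y := by
  rw [dbar_mul, Ideal.Quotient.eq_zero_iff_mem.2 hy, zero_smul, add_zero]

include hχ

theorem sub_mem_mm (z : B) : ∃ c : A, residue A c = χ z ∧ z - algebraMap A B c ∈ mm χ := by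
  obtain ⟨c, hc⟩ := IsLocalRing.residue_surjective (χ z)
  refine ⟨c, hc, ?_⟩
  rw [RingHom.mem_ker, map_sub, ← RingHom.comp_apply, hχ, hc, sub_self]

theorem map_maximal_le : (maximalIdeal A).map (algebraMap A B) ≤ mm χ := by
  refine Ideal.map_le_iff_le_comap.2 fun a ha => ?_
  rw [Ideal.mem_comap, RingHom.mem_ker, ← RingHom.comp_apply, hχ]
  exact (residue_eq_zero_iff a).2 ha

/-- The kernel of the differential on the point ideal contains `nn`. -/
theorem nn_le {y : B} (hy : y ∈ nn χ) : y ∈ mm χ ∧ dbar (A := A) χ y = 0 := by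
  let K : Ideal B :=
    { carrier := {y | y ∈ mm χ ∧ dbar (A := A) χ y = 0}
      add_mem' := fun {a b} ha hb => ⟨Ideal.add_mem _ ha.1 hb.1, by rw [dbar_add, ha.2, hb.2, add_zero]⟩
      zero_mem' := ⟨Ideal.zero_mem _, by rw [dbar, map_zero, tmul_zero]⟩
      smul_mem' := fun r a ha => ⟨Ideal.mul_mem_left _ r ha.1, by
        rw [smul_eq_mul, dbar_mul_of_mem χ r ha.1, ha.2, smul_zero]⟩ }
  have hK : nn χ ≤ K := sup_le (Ideal.mul_le.2 fun a ha b hb => ⟨Ideal.mul_mem_left _ a hb, by
      rw [dbar_mul_of_mem χ a hb, Ideal.Quotient.eq_zero_iff_mem.2 ha, zero_smul]⟩)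
    (Ideal.map_le_iff_le_comap.2 fun a ha =>
      ⟨map_maximal_le χ hχ (Ideal.mem_map_of_mem _ ha), dbar_algebraMap χ a⟩)
  exact hK hy

/-- An element of the point ideal with vanishing differential lies in `nn`. -/
theorem mem_nn {y : B} (hy : y ∈ mm χ) (h : dbar (A := A) χ y = 0) : y ∈ nn χ := by
  let e : ResidueField A →+* B ⧸ nn χ :=
    Ideal.Quotient.lift (maximalIdeal A) ((Ideal.Quotient.mk (nn χ)).comp (algebraMap A B))
      fun a ha => Ideal.Quotient.eq_zero_iff_mem.2 (Ideal.mem_sup_right (Ideal.mem_map_of_mem _ ha))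
  have he : ∀ a : A, e (residue A a) = Ideal.Quotient.mk (nn χ) (algebraMap A B a) := fun a => rfl
  have hχ' : ∀ a : A, χ (algebraMap A B a) = residue A a := fun a => congrArg (fun φ : A →+* _ => φ a) hχ
  let δ₀ : B →ₗ[A] B ⧸ nn χ :=
    { toFun := fun z => Ideal.Quotient.mk (nn χ) z - e (χ z)
      map_add' := fun a b => by simp only [map_add]; ring
      map_smul' := fun a z => by
        simp only [Algebra.smul_def, map_mul, hχ', he, RingHom.id_apply,
          IsScalarTower.algebraMap_apply A B (B ⧸ nn χ), Ideal.Quotient.algebraMap_eq]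
        ring }
  have hδ : ∀ z, ∃ w ∈ mm χ, δ₀ z = Ideal.Quotient.mk (nn χ) w := fun z => by
    obtain ⟨c, hc, hm⟩ := sub_mem_mm χ hχ z
    refine ⟨_, hm, ?_⟩
    rw [map_sub, ← he, hc]
    rfl
  let δ : Derivation A B (B ⧸ nn χ) := Derivation.mk' δ₀ fun a b => by
    obtain ⟨u, hu, hua⟩ := hδ a
    obtain ⟨v, hv, hvb⟩ := hδ b
    have h0 : δ₀ a * δ₀ b = 0 := by
      rw [hua, hvb, ← map_mul]
      exact Ideal.Quotient.eq_zero_iff_mem.2 (Ideal.mem_sup_left (Ideal.mul_mem_mul hu hv))
    have h1 : δ₀ (a * b) = a • δ₀ b + b • δ₀ a - δ₀ a * δ₀ b := by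
      simp only [δ₀, LinearMap.coe_mk, AddHom.coe_mk, map_mul, Algebra.smul_def, Ideal.Quotient.algebraMap_eq]
      ring
    rw [h1, h0, sub_zero]
  let L := δ.liftKaehlerDifferential
  have hL : ∀ ω, L ω ∈ (mm χ).map (Ideal.Quotient.mk (nn χ)) := fun ω => by
    have hω : ω ∈ Submodule.span B (Set.range (D A B)) := by rw [span_range_derivation]; trivial
    induction hω using Submodule.span_induction with
    | mem _ h =>
      obtain ⟨z, rfl⟩ := h
      obtain ⟨w, hw, e'⟩ := hδ z
      rw [Derivation.liftKaehlerDifferential_comp_D]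
      exact e' ▸ Ideal.mem_map_of_mem _ hw
    | zero => rw [map_zero]; exact Submodule.zero_mem _
    | add a b _ _ ha hb => rw [map_add]; exact Submodule.add_mem _ ha hb
    | smul r a _ ha =>
      rw [map_smul, Algebra.smul_def]
      exact Ideal.mul_mem_left _ _ ha
  have hDy : D A B y ∈ mm χ • (⊤ : Submodule B Ω[B⁄A]) := by
    have := congrArg (TensorProduct.quotTensorEquivQuotSMul Ω[B⁄A] (mm χ)) h
    rw [map_zero, dbar, show (1 : B ⧸ mm χ) = Ideal.Quotient.mk (mm χ) 1 from (map_one _).symm,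
      TensorProduct.quotTensorEquivQuotSMul_mk_tmul, one_smul, Submodule.Quotient.mk_eq_zero] at this
    exact this
  have hzero : L (D A B y) = 0 := by
    refine Submodule.smul_induction_on hDy (fun r hr ω _ => ?_) fun a b ha hb => by rw [map_add, ha, hb, add_zero]
    obtain ⟨w, hw, hwe⟩ := (Ideal.mem_map_iff_of_surjective _ Ideal.Quotient.mk_surjective).1 (hL ω)
    rw [map_smul, ← hwe, Algebra.smul_def, Ideal.Quotient.algebraMap_eq, ← map_mul]
    exact Ideal.Quotient.eq_zero_iff_mem.2 (Ideal.mem_sup_left (Ideal.mul_mem_mul hr hw))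
  rw [Derivation.liftKaehlerDifferential_comp_D] at hzero
  have : Ideal.Quotient.mk (nn χ) y - e (χ y) = 0 := hzero
  rw [RingHom.mem_ker.1 hy, map_zero, sub_zero] at this
  exact Ideal.Quotient.eq_zero_iff_mem.1 this

/-- Every vector of the cotangent space is the differential of an element of the point ideal. -/
theorem exists_dbar_eq (t : (B ⧸ mm χ) ⊗[B] Ω[B⁄A]) : ∃ y ∈ mm χ, dbar (A := A) χ y = t := by
  induction t using TensorProduct.induction_on with
  | zero => exact ⟨0, Ideal.zero_mem _, by rw [dbar, map_zero, tmul_zero]⟩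
  | add a b ha hb =>
    obtain ⟨u, hu, rfl⟩ := ha
    obtain ⟨v, hv, rfl⟩ := hb
    exact ⟨u + v, Ideal.add_mem _ hu hv, dbar_add χ u v⟩
  | tmul r ω =>
    obtain ⟨r, rfl⟩ := Ideal.Quotient.mk_surjective r
    have hω : ω ∈ Submodule.span B (Set.range (D A B)) := by rw [span_range_derivation]; trivial
    induction hω using Submodule.span_induction generalizing r with
    | mem _ h =>
      obtain ⟨z, rfl⟩ := h
      obtain ⟨c, -, hm⟩ := sub_mem_mm χ hχ z
      refine ⟨r * (z - algebraMap A B c), Ideal.mul_mem_left _ r hm, ?_⟩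
      rw [dbar_mul_of_mem χ r hm, dbar, map_sub, Derivation.map_algebraMap, sub_zero, smul_tmul', smul_eq_mul,
        mul_one]
    | zero => exact ⟨0, Ideal.zero_mem _, by rw [dbar, map_zero, tmul_zero, tmul_zero]⟩
    | add a b _ _ ha hb =>
      obtain ⟨u, hu, hu'⟩ := ha r
      obtain ⟨v, hv, hv'⟩ := hb r
      exact ⟨u + v, Ideal.add_mem _ hu hv, by rw [dbar_add, hu', hv', tmul_add]⟩
    | smul s a _ ha =>
      obtain ⟨u, hu, hu'⟩ := ha (s * r)
      refine ⟨u, hu, hu'.trans ?_⟩
      rw [tmul_smul, smul_tmul', Algebra.smul_def, Ideal.Quotient.algebraMap_eq, map_mul]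

end Groth.Agent.H26EqSec
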