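import Groth.Agent.H26EqSec.Idem
import Mathlib

/-!
# Lifting a representation inside a permutation module over a henselian local ring
-/

set_option autoImplicit false
noncomputable section

universe u

open IsLocalRing Polynomial Matrix

namespace Groth.Agent.H26EqSec

variable {R : Type u} [CommRing R] [HenselianLocalRing R] {κ : Type u} [Field κ]
  {G : Type u} [Group G] [Fintype G] [DecidableEq G] {n : ℕ}

/-- The map from the permutation module given by a representation. -/
def proj (r : G → Matrix (Fin n) (Fin n) κ) : Matrix (Fin n) (Fin n × G) κ :=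
  Matrix.of fun k p => r p.2 k p.1

/-- Translation of the index set. -/
def shift (g : G) : Fin n × G ≃ Fin n × G := Equiv.prodCongr (Equiv.refl _) (Equiv.mulLeft g)

theorem exists_equivariant_lift (ρ : R →+* κ) (hρ : RingHom.ker ρ = maximalIdeal R) (hρs : Function.Surjective ρ)
    (hG : IsUnit ((Fintype.card G : ℕ) : κ)) (r : G → Matrix (Fin n) (Fin n) κ) (r1 : r 1 = 1)
    (rmul : ∀ g h, r (g * h) = r g * r h) :
    ∃ q : Fin n → Fin n × G → R, (∀ j, proj r *ᵥ (ρ ∘ q j) = Pi.single j 1) ∧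
      ∀ g j, ∃ d : Fin n → R, q j ∘ (shift g).symm = ∑ k, d k • q k := by
  obtain ⟨w, hw⟩ := hG.exists_right_inv
  let S : Matrix (Fin n × G) (Fin n) κ := Matrix.of fun p j => w * r p.2⁻¹ p.1 j
  have hTS : proj r * S = 1 := by
    ext k j
    rw [Matrix.mul_apply, Fintype.sum_prod_type, Finset.sum_comm]
    simp only [proj, S, Matrix.of_apply]
    have h1 : ∀ h : G, ∑ i, r h k i * (w * r h⁻¹ i j) = w * (1 : Matrix (Fin n) (Fin n) κ) k j := fun h => by
      rw [← r1, ← mul_inv_cancel h, rmul, Matrix.mul_apply, Finset.mul_sum]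
      exact Finset.sum_congr rfl fun i _ => by ring
    rw [Finset.sum_congr rfl fun h _ => h1 h, Finset.sum_const, Finset.card_univ, nsmul_eq_mul, ← mul_assoc, hw,
      one_mul]
  let E : Matrix (Fin n × G) (Fin n × G) κ := S * proj r
  have hE : E * E = E := by
    show S * proj r * (S * proj r) = S * proj r
    rw [Matrix.mul_assoc, ← Matrix.mul_assoc (proj r), hTS, Matrix.one_mul]
  have hEinv : ∀ g, E.submatrix (shift g) (shift g) = E := by
    intro g
    have hS : S.submatrix (shift g) id = S * r g⁻¹ := by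
      ext p j
      show w * r (g * p.2)⁻¹ p.1 j = (S * r g⁻¹) p j
      rw [_root_.mul_inv_rev, rmul, Matrix.mul_apply, Matrix.mul_apply, Finset.mul_sum]
      exact Finset.sum_congr rfl fun i _ => by simp [S]; ring
    have hT : (proj r).submatrix id (shift g) = r g * proj r := by
      ext k p
      show r (g * p.2) k p.1 = (r g * proj r) k p
      rw [rmul, Matrix.mul_apply, Matrix.mul_apply]
      rfl
    show (S * proj r).submatrix (shift g) (shift g) = S * proj r
    rw [Matrix.submatrix_mul _ _ _ id _ Function.bijective_id, hS, hT, Matrix.mul_assoc, ← Matrix.mul_assoc (r g⁻¹),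
      ← rmul, inv_mul_cancel, r1, Matrix.one_mul]
  choose L hL using hρs
  let a : Matrix (Fin n × G) (Fin n × G) R :=
    Matrix.of fun p q => L (E (p.1, 1) (q.1, p.2⁻¹ * q.2))
  have haE : ρ.mapMatrix a = E := by
    ext ⟨i, h⟩ ⟨j, h'⟩
    rw [RingHom.mapMatrix_apply, Matrix.map_apply]
    show ρ (L _) = _
    rw [hL]
    have := congrFun (congrFun (hEinv h) (i, 1)) (j, h⁻¹ * h')
    simpa [shift] using this.symm
  have hainv : ∀ g, a.submatrix (shift g) (shift g) = a := fun g => by
    ext ⟨i, h⟩ ⟨j, h'⟩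
    show L (E (i, 1) (j, (g * h)⁻¹ * (g * h'))) = L (E (i, 1) (j, h⁻¹ * h'))
    rw [_root_.mul_inv_rev, mul_assoc, inv_mul_cancel_left]
  obtain ⟨e, he, heE, P, hP⟩ := exists_idem ρ hρ a (show ρ.mapMatrix a * ρ.mapMatrix a = ρ.mapMatrix a by rw [haE, hE])
  have heinv : ∀ g, e.submatrix (shift g) (shift g) = e := fun g => by
    have h1 := aeval_algHom_apply (Matrix.reindexAlgEquiv R R (shift (n := n) g).symm).toAlgHom a P
    rw [show (Matrix.reindexAlgEquiv R R (shift (n := n) g).symm).toAlgHom a = a from hainv g, hP] at h1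
    exact h1.symm
  let s : Fin n → Fin n × G → R := fun j p => L (S p j)
  let q : Fin n → Fin n × G → R := fun j => e *ᵥ s j
  have hres : ∀ v : Fin n × G → R, ρ ∘ (e *ᵥ v) = S *ᵥ (proj r *ᵥ (ρ ∘ v)) := fun v => by
    rw [Matrix.mulVec_mulVec, show S * proj r = e.map ρ by rw [← RingHom.mapMatrix_apply, heE, haE]]
    exact funext fun i => RingHom.map_mulVec ρ e v i
  have hs : ∀ j, ρ ∘ s j = S *ᵥ Pi.single j 1 := fun j => by
    rw [Matrix.mulVec_single_one]
    exact funext fun p => hL _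
  have hq : ∀ j, ρ ∘ q j = S *ᵥ Pi.single j 1 := fun j => by
    rw [hres, hs, Matrix.mulVec_mulVec (Pi.single j 1) (proj r) S, hTS, Matrix.one_mulVec]
  refine ⟨q, fun j => by rw [hq, Matrix.mulVec_mulVec, hTS, Matrix.one_mulVec], fun g j => ?_⟩
  let M : Submodule R (Fin n × G → R) := LinearMap.range e.mulVecLin
  let N : Submodule R (Fin n × G → R) := Submodule.span R (Set.range q)
  have hMN : M ≤ N := by
    refine Submodule.le_of_le_smul_of_le_jacobson_bot (I := maximalIdeal R)
      (by rw [show M = _ from (Submodule.map_top e.mulVecLin).symm]; exact Module.Finite.fg_top.map _) (maximalIdeal_le_jacobson ⊥) ?_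
    rintro _ ⟨v, rfl⟩
    rw [Matrix.mulVecLin_apply]
    let c : Fin n → R := fun k => L ((proj r *ᵥ (ρ ∘ v)) k)
    let d := e *ᵥ v - ∑ k, c k • q k
    have hd0 : ∀ p, d p ∈ maximalIdeal R := fun p => by
      rw [← hρ, RingHom.mem_ker]
      have h2 : ∀ k, ρ (c k * q k p) = (proj r *ᵥ (ρ ∘ v)) k * S p k := fun k => by
        rw [map_mul, hL, show ρ (q k p) = (ρ ∘ q k) p from rfl, hq, Matrix.mulVec_single_one]
        rfl
      show ρ ((e *ᵥ v - ∑ k, c k • q k) p) = 0
      rw [Pi.sub_apply, map_sub, Finset.sum_apply, map_sum,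
        Finset.sum_congr rfl fun k _ => show ρ ((c k • q k) p) = _ from h2 k,
        show ρ ((e *ᵥ v) p) = (ρ ∘ (e *ᵥ v)) p from rfl, hres, sub_eq_zero]
      show ∑ k, S p k * (proj r *ᵥ (ρ ∘ v)) k = ∑ k, (proj r *ᵥ (ρ ∘ v)) k * S p k
      exact Finset.sum_congr rfl fun k _ => mul_comm (S p k) _
    have hed : e *ᵥ d = d := by
      show e *ᵥ (e *ᵥ v - ∑ k, c k • q k) = _
      rw [Matrix.mulVec_sub, Matrix.mulVec_mulVec, he.eq, Matrix.mulVec_sum]
      congr 1
      refine Finset.sum_congr rfl fun k _ => ?_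
      rw [Matrix.mulVec_smul, Matrix.mulVec_mulVec, he.eq]
    have hd : d ∈ maximalIdeal R • M := by
      rw [← hed, show e *ᵥ d = ∑ p, d p • (e *ᵥ Pi.single p 1) by
        rw [← Finset.sum_congr rfl fun p _ => Matrix.mulVec_smul e (d p) (Pi.single p 1), ← Matrix.mulVec_sum]
        congr 1
        exact (pi_eq_sum_univ' d).trans (Finset.sum_congr rfl fun p _ => rfl)]
      exact Submodule.sum_mem _ fun p _ => Submodule.smul_mem_smul (hd0 p) ⟨Pi.single p 1, rfl⟩
    rw [show e *ᵥ v = (∑ k, c k • q k) + d by simp [d]]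
    exact Submodule.add_mem_sup (Submodule.sum_mem _ fun k _ => Submodule.smul_mem _ _ (Submodule.subset_span ⟨k, rfl⟩)) hd
  have hmem : q j ∘ (shift g).symm ∈ M := by
    refine ⟨s j ∘ (shift g).symm, ?_⟩
    rw [Matrix.mulVecLin_apply]
    conv_lhs => rw [← heinv g⁻¹]
    rw [Matrix.submatrix_mulVec_equiv]
    show (e *ᵥ ((s j ∘ (shift g).symm) ∘ (shift g⁻¹).symm)) ∘ shift g⁻¹ = _
    have h3 : ((shift (n := n) g⁻¹ : Fin n × G ≃ _) : Fin n × G → Fin n × G) = (shift g).symm := by
      ext ⟨i, h⟩ <;> simp [shift]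
    have h4 : (((shift (n := n) g⁻¹).symm : Fin n × G ≃ _) : Fin n × G → Fin n × G) = shift g := by
      ext ⟨i, h⟩ <;> simp [shift]
    rw [h3, h4, Function.comp_assoc, Equiv.symm_comp_self, Function.comp_id]
  obtain ⟨d, hd⟩ := (Submodule.mem_span_range_iff_exists_fun R).1 (hMN hmem)
  exact ⟨d, hd.symm⟩

end Groth.Agent.H26EqSec
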