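import Groth.Agent.H26EqSec.Fixed
import Groth.Agent.H26EqSec.Rep
import Groth.Agent.H26EqSec.Cotangent
import Groth.Agent.S17854
import Groth.Agent.S0501

/-!
# Equivariant retractions of smooth algebras over henselian local rings
-/

set_option autoImplicit false
set_option linter.style.haveILetI false
noncomputable section

universe u

open IsLocalRing TensorProduct KaehlerDifferential Matrix

namespace Groth.Agent.H26EqSec

variable {A : Type u} [CommRing A] [HenselianLocalRing A] {B : Type u} [CommRing B] [Algebra A B]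
  {G : Type u} [Group G] [MulSemiringAction G A] [MulSemiringAction G B]

theorem smul_mem_nn (hAB : ∀ (g : G) (a : A), g • algebraMap A B a = algebraMap A B (g • a))
    (htriv : ∀ (g : G) (a : A), g • a - a ∈ maximalIdeal A) (χ : B →+* ResidueField A)
    (hfix : ∀ (g : G) (z : B), χ (g • z) = χ z) (g : G) {y : B} (hy : y ∈ nn (A := A) χ) :
    g • y ∈ nn (A := A) χ := by
  have h : (nn (A := A) χ).map (MulSemiringAction.toRingHom G B g) ≤ nn (A := A) χ := by
    rw [Ideal.map_sup, Ideal.map_mul, Ideal.map_map]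
    have hm : (mm χ).map (MulSemiringAction.toRingHom G B g) ≤ mm χ := Ideal.map_le_iff_le_comap.2 fun z hz => by
      rw [Ideal.mem_comap, RingHom.mem_ker]
      exact (hfix g z).trans hz
    refine sup_le_sup (Ideal.mul_mono hm hm) (Ideal.map_le_iff_le_comap.2 fun a ha => ?_)
    show g • algebraMap A B a ∈ (maximalIdeal A).map (algebraMap A B)
    rw [hAB]
    refine Ideal.mem_map_of_mem _ ?_
    simpa using Ideal.add_mem _ (htriv g a) ha
  exact h (Ideal.mem_map_of_mem _ hy)

theorem exists_equivariant_algHom [Finite G] [Algebra.Smooth A B]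
    (hAB : ∀ (g : G) (a : A), g • algebraMap A B a = algebraMap A B (g • a))
    (hG : IsUnit ((Nat.card G : ℕ) : ResidueField A))
    (htriv : ∀ (g : G) (a : A), g • a - a ∈ maximalIdeal A)
    (χ : B →+* ResidueField A) (hχ : χ.comp (algebraMap A B) = residue A)
    (hfix : ∀ (g : G) (z : B), χ (g • z) = χ z) :
    ∃ s : B →ₐ[A] A, (∀ z, residue A (s z) = χ z) ∧ ∀ (g : G) (z : B), s (g • z) = g • s z := by
  classical
  haveI := Fintype.ofFinite G
  have hχ' : ∀ a : A, χ (algebraMap A B a) = residue A a := fun a => congrArg (fun φ : A →+* _ => φ a) hχ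
  have hsurj : Function.Surjective χ := fun z => by
    obtain ⟨a, rfl⟩ := IsLocalRing.residue_surjective (R := A) z
    exact ⟨_, hχ' a⟩
  haveI hmax : (mm χ).IsMaximal := RingHom.ker_isMaximal_of_surjective χ hsurj
  letI := Ideal.Quotient.field (mm χ)
  let n := Module.finrank (B ⧸ mm χ) ((B ⧸ mm χ) ⊗[B] Ω[B⁄A])
  let b : Module.Basis (Fin n) (B ⧸ mm χ) ((B ⧸ mm χ) ⊗[B] Ω[B⁄A]) := Module.finBasis _ _
  let eκ : B ⧸ mm χ ≃+* ResidueField A := RingHom.quotientKerEquivOfSurjective hsurj
  have heκ : ∀ z, eκ (Ideal.Quotient.mk (mm χ) z) = χ z := fun z => rfl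
  let c : B → Fin n → ResidueField A := fun y i => eκ (b.repr (dbar (A := A) χ y) i)
  have c_add : ∀ y y', c (y + y') = c y + c y' := fun y y' => by
    funext i; simp [c, dbar_add]
  have c_mul : ∀ z y, y ∈ mm χ → c (z * y) = χ z • c y := fun z y hy => by
    funext i
    simp [c, dbar_mul_of_mem χ z hy, heκ]
  let cH : B →+ (Fin n → ResidueField A) := AddMonoidHom.mk' c c_add
  have hcH : ∀ y, cH y = c y := fun y => rfl
  choose y0 hy0 hy0b using fun i => exists_dbar_eq χ hχ (b i)
  have c_y0 : ∀ i, c (y0 i) = Pi.single i 1 := fun i => by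
    funext k
    simp only [c, hy0b, Module.Basis.repr_self, Finsupp.single_apply, Pi.single_apply]
    split_ifs with h1 h2 h2 <;> simp_all
  have hstab : ∀ (g : G) {y : B}, y ∈ mm χ → g • y ∈ mm χ := fun g y hy => by
    rw [RingHom.mem_ker] at hy ⊢
    rw [hfix, hy]
  let r : G → Matrix (Fin n) (Fin n) (ResidueField A) := fun g => Matrix.of fun k i => c (g • y0 i) k
  have key : ∀ (g : G) (y : B), y ∈ mm χ → c (g • y) = r g *ᵥ c y := by
    intro g y hy
    choose a ha using fun i => IsLocalRing.residue_surjective (R := A) (c y i)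
    let y' := y - ∑ i, algebraMap A B (a i) * y0 i
    have hy' : y' ∈ mm χ := Ideal.sub_mem _ hy (Ideal.sum_mem _ fun i _ => Ideal.mul_mem_left _ _ (hy0 i))
    have hc' : c y' = 0 := by
      rw [← hcH, map_sub, map_sum]
      simp only [hcH, c_mul _ _ (hy0 _), hχ', ha, c_y0]
      rw [← pi_eq_sum_univ' (c y), sub_self]
    have h0 : dbar (A := A) χ y' = 0 := b.repr.injective (by
      rw [map_zero]
      ext i
      exact eκ.injective ((congrFun hc' i).trans (map_zero eκ).symm))
    have h1 : c (g • y') = 0 := by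
      funext i
      simp [c, (nn_le χ hχ (smul_mem_nn hAB htriv χ hfix g (mem_nn χ hχ hy' h0))).2]
    have h2 : c (g • y) = c (g • y') + ∑ i, c y i • c (g • y0 i) := by
      rw [show y = y' + ∑ i, algebraMap A B (a i) * y0 i by simp [y'], smul_add, c_add, Finset.smul_sum,
        ← hcH (∑ _ ∈ _, _), map_sum]
      refine congrArg₂ _ (by simp [y']) (Finset.sum_congr rfl fun i _ => ?_)
      rw [hcH, smul_mul', hAB, c_mul _ _ (hstab g (hy0 i)), hχ',
        show residue A (g • a i) = residue A (a i) from Ideal.Quotient.eq.2 (htriv g (a i)), ha]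
      simp [y']
    rw [h2, h1, zero_add]
    funext k
    simp only [Finset.sum_apply, Pi.smul_apply, smul_eq_mul, Matrix.mulVec, dotProduct, r, Matrix.of_apply]
    exact Finset.sum_congr rfl fun i _ => mul_comm _ _
  have r1 : r 1 = 1 := by
    ext k i
    simp [r, c_y0, Matrix.one_apply, Pi.single_apply]
  have rmul : ∀ g h, r (g * h) = r g * r h := fun g h => by
    ext k i
    show c ((g * h) • y0 i) k = _
    rw [mul_smul, key g _ (hstab h (hy0 i))]
    rfl
  obtain ⟨q, hq, hqstab⟩ := exists_equivariant_lift (res : inv A G →+* ResidueField A) ker_res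
    (res_surjective hG htriv) (by rwa [← Nat.card_eq_fintype_card]) r r1 rmul
  let ψ : (Fin n × G → inv A G) → B := fun f => ∑ p, algebraMap A B (f p : A) * (p.2 • y0 p.1)
  have hψm : ∀ f, ψ f ∈ mm χ := fun f => Ideal.sum_mem _ fun p _ => Ideal.mul_mem_left _ _ (hstab _ (hy0 _))
  have hψ : ∀ (g : G) f, ψ (f ∘ (shift g).symm) = g • ψ f := fun g f => by
    show ∑ p, _ = g • ∑ p, _
    rw [← Equiv.sum_comp (shift (n := n) g), Finset.smul_sum]
    refine Finset.sum_congr rfl fun p _ => ?_
    rw [Function.comp_apply, Equiv.symm_apply_apply, smul_mul', hAB, smul_eq_of_mem, ← mul_smul]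
    rfl
  let x : Fin n → B := fun j => ψ (q j)
  have hxc : ∀ j, c (x j) = Pi.single j 1 := fun j => by
    rw [← hq j, ← hcH, map_sum]
    funext k
    simp only [hcH, c_mul _ _ (hstab _ (hy0 _)), hχ', Finset.sum_apply, Pi.smul_apply, smul_eq_mul, Matrix.mulVec,
      dotProduct, proj, r, Matrix.of_apply, Function.comp_apply]
    exact Finset.sum_congr rfl fun p _ => mul_comm _ _
  have hxb : ∀ j, b j = 1 ⊗ₜ D A B (x j) := fun j => by
    refine b.repr.injective (Finsupp.ext fun k => eκ.injective ?_)
    exact (congrFun (c_y0 j) k ▸ by simp only [c, hy0b] : eκ (b.repr (b j) k) = (Pi.single j 1 : _ → ResidueField A) k).trans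
      (congrFun (hxc j) k).symm
  let P := MvPolynomial (Fin n) A
  letI : Algebra P B := (MvPolynomial.aeval x : P →ₐ[A] B).toRingHom.toAlgebra
  haveI : IsScalarTower A P B := IsScalarTower.of_algebraMap_eq fun a => ((MvPolynomial.aeval x).commutes a).symm
  haveI : Algebra.IsEtaleAt P (mm χ) := S17854.isEtaleAt_of_basis A B (mm χ) n x ⟨b, hxb⟩
  haveI : Algebra.FinitePresentation P B := Algebra.FinitePresentation.of_restrict_scalars_finitePresentation A P B
  obtain ⟨h, hh, hEt⟩ := Algebra.exists_etale_of_isEtaleAt (R := P) (mm χ)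
  haveI := hEt
  letI : Algebra P A := (MvPolynomial.aeval (fun _ => (0 : A)) : P →ₐ[A] A).toRingHom.toAlgebra
  let Bh := Localization.Away h
  have hu : IsUnit (χ h) := isUnit_iff_ne_zero.2 hh
  let χh : Bh →+* ResidueField A := IsLocalization.Away.lift h hu
  have hχh : ∀ z, χh (algebraMap B Bh z) = χ z := fun z => IsLocalization.Away.lift_eq h hu z
  let qh : Ideal Bh := RingHom.ker χh
  haveI : qh.IsPrime := RingHom.ker_isPrime χh
  let τ : qh.ResidueField →+* ResidueField A := Ideal.ResidueField.lift qh χh le_rfl fun z hz => by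
    exact isUnit_iff_ne_zero.2 hz
  have hPA : ∀ p : P, χ (algebraMap P B p) = residue A (algebraMap P A p) := fun p => by
    have e : χ.comp (algebraMap P B) = (residue A).comp (algebraMap P A) := by
      refine MvPolynomial.ringHom_ext (fun a => ?_) fun j => ?_
      · show χ (MvPolynomial.aeval x (MvPolynomial.C a)) = residue A (MvPolynomial.aeval _ (MvPolynomial.C a))
        rw [MvPolynomial.aeval_C, MvPolynomial.aeval_C, hχ']
        rfl
      · show χ (MvPolynomial.aeval x (MvPolynomial.X j)) = residue A (MvPolynomial.aeval _ (MvPolynomial.X j))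
        rw [MvPolynomial.aeval_X, MvPolynomial.aeval_X, map_zero]
        exact hψm (q j)
    exact congrArg (fun φ : P →+* _ => φ p) e
  have hτ : ∀ z, τ (algebraMap Bh qh.ResidueField z) = χh z := fun z =>
    Ideal.ResidueField.lift_algebraMap qh χh le_rfl _ z
  obtain ⟨F, ⟨hF1, hF2⟩, hFu⟩ := S0501.result P A Bh qh τ (RingHom.ext fun p => by
    rw [RingHom.comp_apply, RingHom.comp_apply, IsScalarTower.algebraMap_apply P Bh qh.ResidueField, hτ,
      IsScalarTower.algebraMap_apply P B Bh, hχh, hPA])
  have hFres : ∀ z, residue A (F z) = χh z := fun z => (hF2 z).trans (hτ z)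
  let s₀ : B →+* A := F.toRingHom.comp (algebraMap B Bh)
  have hs₀ : ∀ p : P, s₀ (algebraMap P B p) = algebraMap P A p := fun p => by
    show F (algebraMap B Bh (algebraMap P B p)) = _
    rw [← IsScalarTower.algebraMap_apply P B Bh, F.commutes]
  let s : B →ₐ[A] A := { s₀ with
    commutes' := fun a => by
      show s₀ (algebraMap A B a) = a
      rw [IsScalarTower.algebraMap_apply A P B, hs₀]
      exact (MvPolynomial.aeval (fun _ => (0 : A))).commutes a }
  have hsres : ∀ z, residue A (s z) = χ z := fun z => (hFres _).trans (hχh z)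
  have hsx : ∀ j, s (x j) = 0 := fun j => by
    have : x j = algebraMap P B (MvPolynomial.X j) := (MvPolynomial.aeval_X x j).symm
    rw [this]
    exact (hs₀ _).trans (MvPolynomial.aeval_X _ j)
  -- uniqueness
  have huniq : ∀ t : B →ₐ[A] A, (∀ z, residue A (t z) = χ z) → (∀ j, t (x j) = 0) → t = s := by
    intro t htr htx
    have htP : ∀ p : P, t (algebraMap P B p) = algebraMap P A p := fun p => by
      have e : t.comp (MvPolynomial.aeval x) = MvPolynomial.aeval (fun _ => (0 : A)) :=
        MvPolynomial.algHom_ext fun j => by simp [htx]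
      exact congrArg (fun φ : P →ₐ[A] A => φ p) e
    have hth : IsUnit (t.toRingHom h) := by
      refine (isUnit_map_iff (residue A) _).1 ?_
      exact (htr h).symm ▸ hu
    let T : Bh →+* A := IsLocalization.Away.lift h hth
    have hT : ∀ z, T (algebraMap B Bh z) = t z := fun z => IsLocalization.Away.lift_eq h hth z
    have hTres : (residue A).comp T = χh := IsLocalization.ringHom_ext (Submonoid.powers h)
      (RingHom.ext fun z => by
        rw [RingHom.comp_apply, RingHom.comp_apply, RingHom.comp_apply, hT, hχh]; exact htr z)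
    let T' : Bh →ₐ[P] A := { T with
      commutes' := fun p => by
        show T (algebraMap P Bh p) = _
        rw [IsScalarTower.algebraMap_apply P B Bh, hT, htP] }
    have hTF : T' = F := hFu T' ⟨by
      ext z
      show T z ∈ maximalIdeal A ↔ z ∈ qh
      rw [← residue_eq_zero_iff, show residue A (T z) = χh z from congrArg (fun φ : Bh →+* _ => φ z) hTres]
      rfl, fun z => (congrArg (fun φ : Bh →+* _ => φ z) hTres).trans (hτ z).symm⟩
    refine AlgHom.ext fun z => ?_
    rw [← hT z]
    exact congrArg (fun φ : Bh →ₐ[P] A => φ (algebraMap B Bh z)) hTF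
  refine ⟨s, hsres, fun g z => ?_⟩
  let tg : B →ₐ[A] A :=
    { (MulSemiringAction.toRingHom G A g⁻¹).comp (s.toRingHom.comp (MulSemiringAction.toRingHom G B g)) with
      commutes' := fun a => by
        show g⁻¹ • s (g • algebraMap A B a) = a
        rw [hAB, s.commutes]
        exact inv_smul_smul g a }
  have htg : tg = s := huniq tg (fun z => by
      show residue A (g⁻¹ • s (g • z)) = χ z
      rw [show residue A (g⁻¹ • s (g • z)) = residue A (s (g • z)) from Ideal.Quotient.eq.2 (htriv _ _), hsres, hfix])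
    (fun j => by
      show g⁻¹ • s (g • x j) = 0
      obtain ⟨d, hd⟩ := hqstab g j
      have h1 : g • x j = ∑ k, algebraMap A B (d k : A) * x k := by
        rw [← hψ, hd]
        simp only [ψ, x, Finset.sum_apply, Pi.smul_apply, smul_eq_mul, Finset.mul_sum, AddSubmonoidClass.coe_finset_sum,
          Subring.coe_mul, map_sum, map_mul, Finset.sum_mul]
        rw [Finset.sum_comm]
        exact Finset.sum_congr rfl fun k _ => Finset.sum_congr rfl fun p _ => mul_assoc _ _ _
      rw [h1, map_sum]
      simp [hsx])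
  have := congrArg (fun φ : B →ₐ[A] A => g • φ z) htg
  simpa [tg] using this

end Groth.Agent.H26EqSec
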