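import Mathlib

/-!
# Invariants of a finite group acting on a henselian local ring trivially on the residue field
-/

set_option autoImplicit false

universe u

open IsLocalRing Polynomial

namespace Groth.Agent.H26EqSec

variable (A : Type u) [CommRing A] (G : Type u) [Group G] [MulSemiringAction G A]

/-- The invariant subring. -/
abbrev inv : Subring A := FixedPoints.subring A G

variable {A G}

theorem smul_eq_of_mem (g : G) (r : inv A G) : g • (r : A) = r := r.2 g

variable [IsLocalRing A]

theorem isUnit_inv_iff (r : inv A G) : IsUnit r ↔ IsUnit (r : A) := by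
  refine ⟨fun h => h.map (inv A G).subtype, fun h => ?_⟩
  obtain ⟨w, hw⟩ := h.exists_right_inv
  have hmem : w ∈ inv A G := fun g => by
    have h1 : (r : A) * (g • w) = 1 := by
      rw [← smul_eq_of_mem g r, ← smul_mul', hw, smul_one]
    calc g • w = ((r : A) * w) * (g • w) := by rw [hw, one_mul]
      _ = w * ((r : A) * (g • w)) := by ring
      _ = w := by rw [h1, mul_one]
  exact IsUnit.of_mul_eq_one _ (Subtype.ext hw : r * ⟨w, hmem⟩ = 1)

instance isLocalRing_inv : IsLocalRing (inv A G) :=
  IsLocalRing.of_isUnit_or_isUnit_one_sub_self fun r => by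
    rcases IsLocalRing.isUnit_or_isUnit_one_sub_self (r : A) with h | h
    · exact Or.inl ((isUnit_inv_iff r).2 h)
    · exact Or.inr ((isUnit_inv_iff (1 - r)).2 h)

/-- The residue map of the invariants. -/
noncomputable abbrev res : inv A G →+* ResidueField A := (residue A).comp (inv A G).subtype

theorem ker_res : RingHom.ker (res : inv A G →+* ResidueField A) = maximalIdeal (inv A G) := by
  ext r
  rw [RingHom.mem_ker, mem_maximalIdeal, mem_nonunits_iff, isUnit_inv_iff]
  exact (residue_eq_zero_iff (r : A)).trans (mem_maximalIdeal _)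

theorem res_surjective [Finite G] (hG : IsUnit ((Nat.card G : ℕ) : ResidueField A))
    (htriv : ∀ (g : G) (a : A), g • a - a ∈ maximalIdeal A) :
    Function.Surjective (res : inv A G →+* ResidueField A) := by
  intro z
  haveI := Fintype.ofFinite G
  obtain ⟨a, rfl⟩ := IsLocalRing.residue_surjective (R := A) z
  have hu : IsUnit ((Nat.card G : ℕ) : inv A G) := by
    rw [isUnit_inv_iff]
    have h1 : IsUnit (residue A ((Nat.card G : ℕ) : A)) := by rwa [map_natCast]
    exact (isUnit_map_iff (residue A) _).1 h1
  obtain ⟨w, hw⟩ := hu.exists_right_inv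
  have hs : ∑ g : G, g • a ∈ inv A G := fun h => by
    rw [Finset.smul_sum]
    exact Fintype.sum_equiv (Equiv.mulLeft h) _ _ fun g => (mul_smul h g a).symm
  refine ⟨w * ⟨_, hs⟩, ?_⟩
  have hsum : residue A (∑ g : G, g • a) = (Nat.card G : ℕ) * residue A a := by
    rw [map_sum, Finset.sum_congr rfl fun g _ => show residue A (g • a) = residue A a from
      Ideal.Quotient.eq.2 (htriv g a)]
    simp [Nat.card_eq_fintype_card]
  have hw' : residue A (w : A) * ((Nat.card G : ℕ) : ResidueField A) = 1 := by
    rw [← map_natCast (res : inv A G →+* ResidueField A), mul_comm]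
    exact ((res : inv A G →+* ResidueField A).map_mul _ _).symm.trans (by rw [hw, map_one])
  show residue A ((w : A) * ∑ g : G, g • a) = residue A a
  rw [map_mul, hsum, ← mul_assoc, hw', one_mul]

omit [IsLocalRing A] in
theorem eq_of_isRoot [IsLocalRing A] {f : A[X]} {x y : A} (hx : f.IsRoot x) (hy : f.IsRoot y)
    (h : y - x ∈ maximalIdeal A) (hd : IsUnit (f.derivative.eval x)) : y = x := by
  obtain ⟨k, hk⟩ := f.binomExpansion x (y - x)
  rw [add_sub_cancel, show f.eval y = 0 from hy, show f.eval x = 0 from hx, zero_add] at hk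
  have hu : IsUnit (f.derivative.eval x + k * (y - x)) := by
    rcases hd with ⟨v, hv⟩
    by_contra hc
    have : f.derivative.eval x ∈ maximalIdeal A := by
      have h2 := Ideal.sub_mem _ ((mem_maximalIdeal _).2 hc) (Ideal.mul_mem_left _ k h)
      rwa [add_sub_cancel_right] at h2
    exact (mem_maximalIdeal _).1 this ⟨v, hv⟩
  exact sub_eq_zero.1 (hu.mul_right_eq_zero.1 (by rw [hk]; ring))

instance henselian_inv [HenselianLocalRing A] : HenselianLocalRing (inv A G) where
  is_henselian f hf a₀ h₁ h₂ := by
    let ι := (inv A G).subtype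
    have h1 : (f.map ι).eval (a₀ : A) ∈ maximalIdeal A := by
      rw [eval_map, show (a₀ : A) = ι a₀ from rfl, eval₂_at_apply, mem_maximalIdeal, mem_nonunits_iff]
      exact fun h => (mem_maximalIdeal _).1 h₁ ((isUnit_inv_iff _).2 h)
    have h2 : IsUnit ((f.map ι).derivative.eval (a₀ : A)) := by
      rw [derivative_map, eval_map, show (a₀ : A) = ι a₀ from rfl, eval₂_at_apply]
      exact (isUnit_inv_iff _).1 h₂
    obtain ⟨a, ha, ha0⟩ := HenselianLocalRing.is_henselian _ (hf.map ι) _ h1 h2
    have hd : IsUnit ((f.map ι).derivative.eval a) := by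
      by_contra hc
      have h4 : (f.map ι).derivative.eval (a₀ : A) ∈ maximalIdeal A := by
        obtain ⟨k, hk⟩ := sub_dvd_eval_sub (a₀ : A) a (f.map ι).derivative
        have h3 := Ideal.add_mem _ ((mem_maximalIdeal _).2 hc)
          (Ideal.mul_mem_right k _ (by simpa using neg_mem ha0 : (a₀ : A) - a ∈ maximalIdeal A))
        rw [← hk] at h3
        rwa [add_sub_cancel] at h3
      exact (mem_maximalIdeal _).1 h4 h2
    have hmem : a ∈ inv A G := fun g => by
      refine eq_of_isRoot ha ?_ ?_ hd
      · show (f.map ι).eval (g • a) = 0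
        have hm : (f.map ι).map (MulSemiringAction.toRingHom G A g) = f.map ι := by
          rw [Polynomial.map_map]
          congr 1
          exact RingHom.ext fun r => r.2 g
        rw [← hm, eval_map, show g • a = MulSemiringAction.toRingHom G A g a from rfl, eval₂_at_apply,
          show (f.map ι).eval a = 0 from ha, map_zero]
      · have h5 : g • a - a = g • (a - a₀) - (a - a₀) := by
          rw [smul_sub, smul_eq_of_mem g a₀]; ring
        rw [h5]
        refine Ideal.sub_mem _ ((mem_maximalIdeal _).2 fun hu => ?_) ha0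
        have h6 : IsUnit (g⁻¹ • (g • (a - (a₀ : A)))) := hu.map (MulSemiringAction.toRingHom G A g⁻¹)
        rw [inv_smul_smul] at h6
        exact (mem_maximalIdeal _).1 ha0 h6
    refine ⟨⟨a, hmem⟩, ?_, ?_⟩
    · apply Subtype.val_injective
      show ι (f.eval _) = 0
      rw [← eval₂_id, hom_eval₂, ← eval_map]
      exact ha
    · rw [mem_maximalIdeal, mem_nonunits_iff, isUnit_inv_iff]
      exact (mem_maximalIdeal _).1 ha0

end Groth.Agent.H26EqSec
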