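import Groth.Agent.S0521
import Groth.Agent.H9Hens.SchemeSections
import Mathlib

/-!
# Lifting idempotent matrices over henselian local rings as polynomials in a lift
-/

set_option autoImplicit false

universe u

open IsLocalRing Polynomial

namespace Groth.Agent.H26EqSec

variable {R : Type u} [CommRing R] [HenselianLocalRing R] {κ : Type u} [Field κ]

theorem exists_idem (ρ : R →+* κ) (hρ : RingHom.ker ρ = maximalIdeal R) {ι : Type u} [Fintype ι] [DecidableEq ι]
    (a : Matrix ι ι R) (ha : IsIdempotentElem (ρ.mapMatrix a)) :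
    ∃ e : Matrix ι ι R, IsIdempotentElem e ∧ ρ.mapMatrix e = ρ.mapMatrix a ∧
      ∃ p : R[X], aeval a p = e := by
  let I : Ideal R[X] := RingHom.ker (aeval (R := R) a : R[X] →ₐ[R] Matrix ι ι R)
  let C := R[X] ⧸ I
  haveI : Module.Finite R C := by
    haveI : Module.Finite R (R[X] ⧸ Ideal.span {a.charpoly}) := (Matrix.charpoly_monic a).finite_adjoinRoot
    have hle : Ideal.span {a.charpoly} ≤ I := by
      rw [Ideal.span_singleton_le_iff_mem]
      exact Matrix.aeval_self_charpoly a
    exact Module.Finite.of_surjective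
      (Ideal.Quotient.factorₐ R hle : R[X] ⧸ Ideal.span {a.charpoly} →ₐ[R] C).toLinearMap
      (Ideal.Quotient.factor_surjective hle)
  let θ : C →ₐ[R] Matrix ι ι R := Ideal.kerLiftAlg (aeval (R := R) a)
  have hθ : Function.Injective θ := Ideal.kerLiftAlg_injective _
  let Θ : C →+* Matrix ι ι κ := ρ.mapMatrix.comp θ.toRingHom
  let mC : Ideal C := (maximalIdeal R).map (algebraMap R C)
  have hmC : ∀ y ∈ mC, Θ y = 0 := by
    show mC ≤ RingHom.ker Θ
    refine Ideal.map_le_iff_le_comap.2 fun r hr => ?_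
    show ρ.mapMatrix (θ (algebraMap R C r)) = 0
    rw [θ.commutes, Matrix.algebraMap_eq_diagonal, RingHom.mapMatrix_apply, Matrix.diagonal_map (map_zero ρ)]
    have h0 : ρ r = 0 := RingHom.mem_ker.1 (hρ.symm ▸ hr)
    simp [Function.comp_def, h0]
  let f : C ⧸ mC →+* Matrix ι ι κ := Ideal.Quotient.lift mC Θ hmC
  have hnil : ∀ z ∈ RingHom.ker f, IsNilpotent z := by
    intro z hz
    obtain ⟨y, rfl⟩ := Ideal.Quotient.mk_surjective z
    have hy : (θ y).map ρ = 0 := hz
    refine ⟨Fintype.card ι, ?_⟩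
    rw [← map_pow, Ideal.Quotient.eq_zero_iff_mem]
    let q := (θ y).charpoly
    have hq : aeval y q = 0 := hθ (by rw [← aeval_algHom_apply, map_zero]; exact Matrix.aeval_self_charpoly _)
    have hq' : q.map (algebraMap R (C ⧸ mC)) = X ^ Fintype.card ι := by
      have h1 : q.map ρ = X ^ Fintype.card ι := by
        rw [← Matrix.charpoly_map, hy, Matrix.charpoly_zero]
      ext i
      have h2 : ρ (q.coeff i) = ρ ((X ^ Fintype.card ι : R[X]).coeff i) := by
        rw [← coeff_map, ← coeff_map, h1, Polynomial.map_pow, map_X]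
      have h3 : q.coeff i - (X ^ Fintype.card ι : R[X]).coeff i ∈ maximalIdeal R := by
        rw [← hρ, RingHom.mem_ker, map_sub, h2, sub_self]
      have h4 : (algebraMap R (C ⧸ mC) : R →+* (C ⧸ mC)) (q.coeff i - (X ^ Fintype.card ι : R[X]).coeff i) = 0 := by
        show Ideal.Quotient.mk mC (algebraMap R C _) = 0
        exact Ideal.Quotient.eq_zero_iff_mem.2 (Ideal.mem_map_of_mem _ h3)
      rw [map_sub, sub_eq_zero] at h4
      rw [coeff_map, h4, coeff_X_pow, coeff_X_pow]
      split_ifs <;> simp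
    have h5 : aeval (Ideal.Quotient.mk mC y) q = 0 := by
      rw [← Ideal.Quotient.mkₐ_eq_mk (R₁ := R), aeval_algHom_apply, hq, map_zero]
    rw [aeval_def, ← eval_map, hq'] at h5
    exact Ideal.Quotient.eq_zero_iff_mem.1
      ((map_pow _ _ _).trans ((Polynomial.eval₂_X_pow _ _ : (X ^ Fintype.card ι : (C ⧸ mC)[X]).eval (Ideal.Quotient.mk mC y) =
        (Ideal.Quotient.mk mC y) ^ Fintype.card ι).symm.trans h5))
  have hT : f (Ideal.Quotient.mk mC (Ideal.Quotient.mk I X)) = ρ.mapMatrix a := by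
    show ρ.mapMatrix (aeval a (X : R[X])) = ρ.mapMatrix a
    rw [aeval_X]
  obtain ⟨ε', hε', hε''⟩ := exists_isIdempotentElem_eq_of_ker_isNilpotent f hnil _ ⟨_, hT⟩ ha
  obtain ⟨ε, hε, hεε⟩ := ((S0521.result R (maximalIdeal R)).1 (H9Hens.henselianRing_maximalIdeal R) C
    inferInstance).surjOn hε'
  refine ⟨θ ε, hε.map θ, ?_, ?_⟩
  · rw [← hε'', ← hεε]
    rfl
  · obtain ⟨p, rfl⟩ := Ideal.Quotient.mk_surjective ε
    exact ⟨p, rfl⟩

end Groth.Agent.H26EqSec
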